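import Groth.Agent.EtBCA.PullId
import Groth.Agent.EtBCA.Efface
import Groth.Agent.EtFound.Presentation
import Groth.Agent.EtFound.NoethConstr
import Groth.Agent.S0133
import Mathlib.CategoryTheory.Subobject.Limits
import Mathlib.CategoryTheory.Subobject.Lattice

/-!
# Effaceability of cohomology among constructible sheaves
-/

set_option autoImplicit false
set_option linter.style.haveILetI false
set_option backward.isDefEq.respectTransparency false
set_option backward.isDefEq.respectTransparency.types false

universe u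

open CategoryTheory CategoryTheory.Limits AlgebraicGeometry Opposite

noncomputable section

namespace Groth.Agent.EffCon51

variable {X : Scheme.{u}}

/-- An affine object of the etale site with a section killed by `n`. -/
def Gen (I : EtCoh.Ab X) (n : ℕ) : Type (u + 1) :=
  Σ U : {U : X.Etale // IsAffine U.left}, {s : I.obj.obj (op U.1) // n • s = 0}

variable {I : EtCoh.Ab X} {n : ℕ}

theorem exists_genHom [NeZero n] (g : Gen I n) :
    ∃ h : EtPBC.extZeroConst g.1.1 (ZMod n) ⟶ I,
      h.hom.app (op g.1.1) (EtFound.taut g.1.1 (ZMod n) ⟨1⟩) = g.2.1 := by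
  obtain ⟨U, s, hs⟩ := g
  let L : ZMod n →+ I.obj.obj (op U.1) := ZMod.lift n ⟨zmultiplesHom _ s, by simpa [natCast_zsmul] using hs⟩
  obtain ⟨h, hh⟩ := EtFound.exists_hom_taut (M := ZMod n) (U := U.1) (F := I) (AddCommGrpCat.ofHom
    (L.comp (AddEquiv.ulift : ULift.{u + 1} (ZMod n) ≃+ ZMod n).toAddMonoidHom))
  refine ⟨h, (ConcreteCategory.congr_hom hh (⟨1⟩ : ULift.{u + 1} (ZMod n))).trans ?_⟩
  show L 1 = s
  refine ((congrArg L (Int.cast_one (R := ZMod n)).symm).trans (ZMod.lift_coe n _ 1)).trans ?_
  exact one_zsmul s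

variable [NeZero n] {F : EtCoh.Ab X} (u : F ⟶ I)

/-- The subsheaf generated by `F` and finitely many sections. -/
def sub (S : Finset (Gen I n)) : Subobject I :=
  imageSubobject u ⊔ S.sup fun g => imageSubobject (exists_genHom g).choose

theorem sub_mono {S T : Finset (Gen I n)} (h : S ⊆ T) : sub u S ≤ sub u T :=
  sup_le_sup_left (Finset.sup_mono h) _

/-- The diagram of these subsheaves. -/
def system : Finset (Gen I n) ⥤ EtCoh.Ab X where
  obj S := Subobject.underlying.obj (sub u S)
  map h := Subobject.ofLE _ _ (sub_mono u (leOfHom h))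
  map_id S := Subobject.ofLE_refl _
  map_comp f g := (Subobject.ofLE_comp_ofLE _ _ _ _ _).symm

/-- The cocone to `I`. -/
def cocone : Cocone (system u (n := n)) where
  pt := I
  ι := { app := fun S => (sub u S).arrow, naturality := fun S T h => by simp [system] }

theorem isIso_desc (hI : n • 𝟙 I = 0) : IsIso (colimit.desc _ (cocone u (n := n))) := by
  classical
  haveI : CategoryTheory.IsConnected (Finset (Gen I n)) := IsFiltered.isConnected _
  let φ : system u (n := n) ⟶ (Functor.const _).obj I := (cocone u).ι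
  haveI : ∀ S, Mono (φ.app S) := fun S => inferInstanceAs (Mono (sub u S).arrow)
  haveI : Mono φ := NatTrans.mono_of_mono_app φ
  haveI : Mono (colimit.desc _ (cocone u (n := n))) :=
    colim.map_mono' φ (colimit.isColimit (system u (n := n)))
      (isColimitConstCocone (Finset (Gen I n)) I) (colimit.desc _ (cocone u (n := n)))
      (fun j => (colimit.ι_desc _ j).trans (Category.comp_id _).symm)
  haveI : Epi (colimit.desc _ (cocone u (n := n))) := by
    refine (EtFound.epi_iff_stalks _).2 fun Ω _ _ ξ t => ?_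
    obtain ⟨U, z, s, rfl⟩ := (Scheme.pointSmallEtale ξ).toPresheafFiber_jointly_surjective t
    obtain ⟨A, hA, huA, -⟩ := exists_isAffineOpen_mem_and_subset (U := (⊤ : U.left.Opens))
      (x := EtFound.ptOf z) trivial
    haveI : AlgebraicGeometry.Etale U.hom := U.prop
    let U' : X.Etale := Scheme.Etale.mk (A.ι ≫ U.hom)
    let r : U' ⟶ U := MorphismProperty.Over.homMk A.ι rfl
    obtain ⟨v, hv⟩ := EtFound.exists_lift_open (z.left : Spec (CommRingCat.of Ω) ⟶ U.left) A fun w => by
      rw [Subsingleton.elim (α := Spec (CommRingCat.of Ω)) w default]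
      exact huA
    let z' : (Scheme.pointSmallEtale ξ).fiber.obj U' :=
      CategoryTheory.Over.homMk (v : Spec (CommRingCat.of Ω) ⟶ A.toScheme)
        ((Category.assoc _ _ _).symm.trans ((congrArg (· ≫ U.hom) hv).trans (CategoryTheory.Over.w z)))
    have hz : (Scheme.pointSmallEtale ξ).fiber.map r z' = z := CategoryTheory.Over.OverMorphism.ext hv
    let g : Gen I n := ⟨⟨U', hA⟩, I.obj.map r.op s, (EtFound.killedBy_iff_nsmul n I).2 hI U' _⟩
    have hle : imageSubobject (exists_genHom g).choose ≤ sub u {g} :=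
      le_sup_of_le_right (Finset.le_sup (f := fun g => imageSubobject (exists_genHom g).choose) (Finset.mem_singleton_self g))
    let k : EtPBC.extZeroConst g.1.1 (ZMod n) ⟶ colimit (system u (n := n)) :=
      factorThruImageSubobject _ ≫ Subobject.ofLE _ _ hle ≫ colimit.ι (system u (n := n)) {g}
    refine ⟨(EtCoh.stalk ξ).map k ((Scheme.pointSmallEtale ξ).toPresheafFiber U' z' (EtPBC.extZeroConst U' (ZMod n)).obj
      (EtFound.taut U' (ZMod n) ⟨1⟩)), ?_⟩
    have hk : k ≫ colimit.desc _ (cocone u) = (exists_genHom g).choose := by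
      simp [k, cocone]
    rw [← ConcreteCategory.comp_apply, ← Functor.map_comp, hk]
    refine ((Scheme.pointSmallEtale ξ).toPresheafFiber_naturality_apply _ U' z' _).trans ?_
    refine (congrArg _ (exists_genHom g).choose_spec).trans ?_
    show (Scheme.pointSmallEtale ξ).toPresheafFiber U' z' I.obj (I.obj.map r.op s) = _
    rw [(Scheme.pointSmallEtale ξ).toPresheafFiber_w_apply, hz]
    rfl
  exact isIso_of_mono_of_epi _

theorem isConstructible_biprod {A B : EtCoh.Ab X} (hA : EtPBC.IsConstructible A) (hB : EtPBC.IsConstructible B) :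
    EtPBC.IsConstructible (A ⊞ B) :=
  EtFound.isConstructible_of_extension
    (ShortComplex.Splitting.ofHasBinaryBiproduct A B).shortExact hA hB

theorem isConstructible_sup [IsLocallyNoetherian X] {P Q : Subobject I}
    (hP : EtPBC.IsConstructible (P : EtCoh.Ab X)) (hQ : EtPBC.IsConstructible (Q : EtCoh.Ab X)) :
    EtPBC.IsConstructible ((P ⊔ Q : Subobject I) : EtCoh.Ab X) := by
  let p := biprod.desc (Subobject.ofLE P _ (le_sup_left (b := Q))) (Subobject.ofLE Q (P ⊔ Q) le_sup_right)
  haveI : Epi p := by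
    have hle : P ⊔ Q ≤ imageSubobject (p ≫ (P ⊔ Q).arrow) :=
      sup_le
        (Subobject.le_of_comm (biprod.inl ≫ factorThruImageSubobject _) (by simp [p]))
        (Subobject.le_of_comm (biprod.inr ≫ factorThruImageSubobject _) (by simp [p]))
    have hp : p ≫ Subobject.ofLE _ _ hle = factorThruImageSubobject (p ≫ (P ⊔ Q).arrow) := by
      rw [← cancel_mono (imageSubobject (p ≫ (P ⊔ Q).arrow)).arrow]
      simp
    haveI : Epi (p ≫ Subobject.ofLE _ _ hle) := by rw [hp]; infer_instance
    haveI : Epi (Subobject.ofLE _ _ hle) := epi_of_epi p _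
    haveI : IsIso (Subobject.ofLE _ _ hle) := isIso_of_mono_of_epi _
    exact (epi_comp_iff_of_isIso p (Subobject.ofLE _ _ hle)).1 ‹_›
  exact EtFound.isConstructible_of_epi (isConstructible_biprod hP hQ) p

theorem isConstructible_image [IsLocallyNoetherian X] {A B : EtCoh.Ab X} (f : A ⟶ B) (hA : EtPBC.IsConstructible A) :
    EtPBC.IsConstructible (imageSubobject f : EtCoh.Ab X) :=
  EtFound.isConstructible_of_epi hA (factorThruImageSubobject f)

theorem isConstructible_sub [IsNoetherian X] (hF : EtPBC.IsConstructible F) (S : Finset (Gen I n)) :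
    EtPBC.IsConstructible (sub u S : EtCoh.Ab X) := by
  classical
  refine isConstructible_sup (isConstructible_image u hF) ?_
  induction S using Finset.induction with
  | empty =>
    rw [Finset.sup_empty]
    exact EtFound.isConstructible_of_epi (EtFound.isConstructible_of_isZero (isZero_zero _)) Subobject.botCoeIsoZero.inv
  | @insert g S _ ih =>
    rw [Finset.sup_insert]
    refine isConstructible_sup (isConstructible_image _ ?_) ih
    haveI := g.1.2
    haveI : CompactSpace g.1.1.left := inferInstance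
    exact S0133.result X g.1.1 (ZMod n)

theorem effaceable [IsNoetherian X] (hF : EtPBC.IsConstructible F) (q : ℕ) (hq : 0 < q) (α : EtCoh.H X F q) :
    ∃ (G : EtCoh.Ab X) (v : F ⟶ G), EtPBC.IsConstructible G ∧ Mono v ∧ (EtCoh.HF X q).map v α = 0 := by
  classical
  obtain ⟨m, hm, hkill⟩ := EtFound.exists_killedBy X hF
  haveI : NeZero m := ⟨hm.ne'⟩
  let R := EtCoh.pull (EtBCA.ptsMap X) ⋙ EtCoh.push (EtBCA.ptsMap X)
  let J := R.obj F
  let η : F ⟶ J := (EtCoh.pullPushAdj (EtBCA.ptsMap X)).unit.app F
  haveI : Mono η := EtBCA.ptsMap_unit_mono X F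
  have hJ : m • 𝟙 J = 0 := by
    have : (EtCoh.pull (EtBCA.ptsMap X)).Additive := (EtCoh.pullPushAdj (EtBCA.ptsMap X)).left_adjoint_additive
    have : (EtCoh.push (EtBCA.ptsMap X)).Additive := (EtCoh.pullPushAdj (EtBCA.ptsMap X)).right_adjoint_additive
    rw [← R.map_id, ← Functor.map_nsmul, hkill, Functor.map_zero]
  haveI := EtBCA.subsingleton_H_of_qcAcyclic (EtBCA.qcAcyclic_of_flabby (EtBCA.flabby_ptsPush _) : EtBCA.QcAcyclic J) q hq
  haveI := isIso_desc η hJ
  haveI := EtLC12.QcqsAcyclic.preservesColimitsOfShape_HF X q (Finset (Gen J m))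
  let c := colimit.cocone (system η (n := m))
  let hc := isColimitOfPreserves (EtCoh.HF X q) (colimit.isColimit (system η (n := m)))
  let u₀ : F ⟶ (system η (n := m)).obj ∅ :=
    factorThruImageSubobject η ≫ Subobject.ofLE _ _ (le_sup_left : imageSubobject η ≤ sub η (∅ : Finset (Gen J m)))
  have hu₀ : u₀ ≫ (sub η (∅ : Finset (Gen J m))).arrow = η := by simp [u₀]
  have h0 : ((EtCoh.HF X q).mapCocone c).ι.app ∅ ((EtCoh.HF X q).map u₀ α) =
      ((EtCoh.HF X q).mapCocone c).ι.app ∅ 0 := by
    haveI : Subsingleton ↑((EtCoh.HF X q).obj (colimit (system η (n := m)))) :=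
      @Equiv.subsingleton _ _ ((EtCoh.HF X q).mapIso (asIso (colimit.desc _ (cocone η (n := m))))).addCommGroupIsoToAddEquiv.toEquiv
        ‹_›
    exact @Subsingleton.elim _ this _ _
  obtain ⟨T, f, g, hfg⟩ := (Concrete.isColimit_rep_eq_iff_exists _ hc _ _).1 h0
  refine ⟨(system η).obj T, u₀ ≫ (system η).map f, isConstructible_sub η hF T, ?_, ?_⟩
  · haveI : Mono ((u₀ ≫ (system η (n := m)).map f) ≫ (sub η T).arrow) := by
      simp only [system, Category.assoc, Subobject.ofLE_arrow, hu₀]; infer_instance
    exact mono_of_mono _ (sub η T).arrow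
  · rw [Functor.map_comp, ConcreteCategory.comp_apply]
    exact hfg.trans (map_zero ((EtCoh.HF X q).map ((system η).map g)).hom)

end Groth.Agent.EffCon51
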